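import Cfsg.Agent.H278.Cov.Defs
import Cfsg.Agent.H251.GeoU
import Cfsg.Agent.H900.SU4.Base

/-!
# S2499, `PSU_7(q)` and `PSU_8(q)` (helper834, task 3952): the criterion and arithmetic

* `noTwo_of_props`, `noTwo_psu_of` : the criterion with three invariant properties of elements of `SU_n(q) ≤ GL_n(q²)`;
* `core_dvd` : an element of prime order `s ∤ q² - 1` of a group in the residual class gives `s ∣ |Aut(S)|`;
* `subfield_kill` : subfield groups and primes `s` with `-q` of order `m`, `n < 2 m`.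
-/

set_option autoImplicit false

namespace Cfsg.Agent.H834.Cov

open Cfsg Cfsg.Geo Module Cfsg.Agent.H278.Cov Cfsg.Agent.H918 Cfsg.Agent.H251 Cfsg.Agent.H251.GeoCard Cfsg.Agent.H951
open scoped Matrix MatrixGroups

/-- the criterion with three properties of elements -/
theorem noTwo_of_props {G : Type*} [Group G] [Finite G] {a b c : G} {PA PB PC : G → Prop} {TA TB : Subgroup G → Prop}
    (hPA : ∀ g x, PA x → PA (g * x * g⁻¹)) (hPB : ∀ g x, PB x → PB (g * x * g⁻¹))
    (hPC : ∀ g x, PC x → PC (g * x * g⁻¹)) (ha : PA a) (hb : PB b) (hc : PC c)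
    (hA : ∀ H : Subgroup G, IsCoatom H → ∀ x ∈ H, PA x → TA H)
    (hB : ∀ H : Subgroup G, IsCoatom H → ∀ x ∈ H, PB x → TB H)
    (hAB : ∀ H : Subgroup G, IsCoatom H → ∀ x ∈ H, PA x → ∀ y ∈ H, PB y → False)
    (hCA : ∀ H : Subgroup G, TA H → ∀ x ∈ H, PC x → False)
    (hCB : ∀ H : Subgroup G, TB H → ∀ x ∈ H, PC x → False) : NoTwo G := by
  refine noTwo_of_two (a := a) (b := b) (fun H hH => ?_) (fun H K hH hK haH hbK => ?_)
  · by_contra hcon
    push Not at hcon
    obtain ⟨g, hg⟩ := not_av hcon.1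
    obtain ⟨k, hk⟩ := not_av hcon.2
    exact hAB H hH _ hg (hPA g a ha) _ hk (hPB k b hb)
  · exact ⟨c, fun g hg => hCA H (hA H hH a haH ha) _ hg (hPC g c hc),
      fun g hg => hCB K (hB K hK b hbK hb) _ hg (hPC g c hc)⟩

theorem isMaximalIn_map {G Γ : Type*} [Group G] [Group Γ] {f : G →* Γ} (hf : Function.Injective f) {S : Subgroup Γ}
    (hr : f.range = S) {K : Subgroup G} (hK : IsCoatom K) : IsMaximalIn S (K.map f) := by
  refine ⟨lt_of_le_of_ne (by rw [← hr]; exact Subgroup.map_le_range f K) fun h => ?_, fun M h1 h2 => ?_⟩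
  · apply hK.1
    apply Subgroup.map_injective hf
    rw [h, ← hr, MonoidHom.range_eq_map]
  · have h3 : K ≤ M.comap f := Subgroup.map_le_iff_le_comap.1 h1
    have h4 : (M.comap f).map f = M := by
      rw [Subgroup.map_comap_eq, hr, inf_eq_right.2 h2]
    rcases eq_or_lt_of_le h3 with h | h
    · left
      rw [← h4, ← h]
    · right
      rw [← h4, hK.2 _ h, ← hr, MonoidHom.range_eq_map]

/-- the criterion for `PSU_n(q)`, in `GL_n(q²)` -/
theorem noTwo_psu_of {F : Type} [Field F] [Fintype F] {n q : ℕ} {a b c : GL (Fin n) F} (haS : a ∈ SUg n F q)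
    (hbS : b ∈ SUg n F q) (hcS : c ∈ SUg n F q) {PA PB PC : GL (Fin n) F → Prop}
    {TA TB : Subgroup (GL (Fin n) F) → Prop}
    (hPA : ∀ g ∈ SUg n F q, ∀ x, PA x → PA (g * x * g⁻¹)) (hPB : ∀ g ∈ SUg n F q, ∀ x, PB x → PB (g * x * g⁻¹))
    (hPC : ∀ g ∈ SUg n F q, ∀ x, PC x → PC (g * x * g⁻¹)) (ha : PA a) (hb : PB b) (hc : PC c)
    (hA : ∀ H, IsMaximalIn (SUg n F q) H → ∀ x ∈ H, PA x → TA H)
    (hB : ∀ H, IsMaximalIn (SUg n F q) H → ∀ x ∈ H, PB x → TB H)
    (hAB : ∀ H, IsMaximalIn (SUg n F q) H → ∀ x ∈ H, PA x → ∀ y ∈ H, PB y → False)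
    (hCA : ∀ H, TA H → ∀ x ∈ H, PC x → False)
    (hCB : ∀ H, TB H → ∀ x ∈ H, PC x → False) : NoTwo (PSU n F q) := by
  obtain ⟨a', ha'⟩ := exists_suHom haS
  obtain ⟨b', hb'⟩ := exists_suHom hbS
  obtain ⟨c', hc'⟩ := exists_suHom hcS
  have hfin : Finite (Cfsg.SU n F q) := inferInstance
  have hmax : ∀ H : Subgroup (Cfsg.SU n F q), IsCoatom H → IsMaximalIn (SUg n F q) (H.map (suHom n F q)) :=
    fun H hH => isMaximalIn_map suHom_injective range_suHom hH
  have hmem : ∀ (H : Subgroup (Cfsg.SU n F q)) (x : Cfsg.SU n F q), x ∈ H → suHom n F q x ∈ H.map (suHom n F q) :=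
    fun H x hx => ⟨x, hx, rfl⟩
  have key : NoTwo (Cfsg.SU n F q) := by
    refine noTwo_of_props (a := a') (b := b') (c := c') (PA := fun x => PA (suHom n F q x))
      (PB := fun x => PB (suHom n F q x)) (PC := fun x => PC (suHom n F q x))
      (TA := fun H => TA (H.map (suHom n F q))) (TB := fun H => TB (H.map (suHom n F q)))
      ?_ ?_ ?_ ?_ ?_ ?_ ?_ ?_ ?_ ?_ ?_
    · intro g x hx
      simp only [map_mul, map_inv]
      exact hPA _ (suHom_mem g) _ hx
    · intro g x hx
      simp only [map_mul, map_inv]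
      exact hPB _ (suHom_mem g) _ hx
    · intro g x hx
      simp only [map_mul, map_inv]
      exact hPC _ (suHom_mem g) _ hx
    · rw [ha']; exact ha
    · rw [hb']; exact hb
    · rw [hc']; exact hc
    · intro H hH x hx h
      exact hA _ (hmax H hH) _ (hmem H x hx) h
    · intro H hH x hx h
      exact hB _ (hmax H hH) _ (hmem H x hx) h
    · intro H hH x hx h y hy h'
      exact hAB _ (hmax H hH) _ (hmem H x hx) h _ (hmem H y hy) h'
    · intro H hH x hx h
      exact hCA _ hH _ (hmem H x hx) h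
    · intro H hH x hx h
      exact hCB _ hH _ (hmem H x hx) h
  exact key.of_surjective (QuotientGroup.mk' _) (QuotientGroup.mk'_surjective _)

/-- an element of prime order in a group of the residual class -/
theorem core_dvd {F : Type*} [Field F] [Fintype F] {n s : ℕ} (hn : 0 < n) {H P : Subgroup (GL (Fin n) F)}
    (hP : IsResidualCore H P) (hs : s.Prime) (hs1 : ¬ s ∣ Nat.card F - 1) {x : GL (Fin n) F} (hx : x ∈ H)
    (ho : orderOf x = s) : s ∣ Nat.card (MulAut (P ⧸ (scalars (Fin n) F).subgroupOf P)) := by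
  classical
  have hfG : Finite (GL (Fin n) F) := inferInstance
  obtain ⟨φ, hφ⟩ := H900.SU4.exists_core_inj hP
  set x' : H := ⟨x, hx⟩ with hx'
  have ho' : orderOf x' = s := by rw [← ho, hx', Subgroup.orderOf_mk]
  set y := φ (QuotientGroup.mk' ((scalars (Fin n) F).subgroupOf H) x') with hy
  have h1 : orderOf y ∣ s := by
    rw [hy, orderOf_injective φ hφ, ← ho']
    exact orderOf_map_dvd _ _
  rcases (Nat.dvd_prime hs).1 h1 with h2 | h2
  · exfalso
    rw [hy, orderOf_injective φ hφ, orderOf_eq_one_iff] at h2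
    have h3 : x' ∈ (scalars (Fin n) F).subgroupOf H := (QuotientGroup.eq_one_iff x').1 h2
    have h4 : x ∈ scalars (Fin n) F := Subgroup.mem_subgroupOf.1 h3
    obtain ⟨c, hc⟩ := (mem_scalars_iff _).1 h4
    have hxs : x ^ s = 1 := by rw [← ho]; exact pow_orderOf_eq_one x
    have hcs : c ^ s = 1 := by
      have h5 := congrArg (fun g : GL (Fin n) F => (g : Matrix (Fin n) (Fin n) F) ⟨0, hn⟩ ⟨0, hn⟩) hxs
      simp only [Units.val_pow_eq_pow_val, hc, _root_.smul_pow, one_pow, Units.val_one, Matrix.smul_apply,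
        Matrix.one_apply_eq, smul_eq_mul, mul_one] at h5
      exact Units.ext (by rw [Units.val_pow_eq_pow_val, h5, Units.val_one])
    have hc1 : c ≠ 1 := by
      rintro rfl
      have : x = 1 := Units.ext (by rw [hc]; simp)
      rw [this, orderOf_one] at ho
      exact hs.one_lt.ne ho
    apply hs1
    have h6 : orderOf c = s := orderOf_eq_prime hcs hc1 (hp := ⟨hs⟩)
    rw [Nat.card_eq_fintype_card, ← Fintype.card_units, ← h6]
    exact orderOf_dvd_card
  · rw [← h2, ← Nat.card_zpowers]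
    exact Subgroup.card_subgroup_dvd_card _

/-- subfield groups -/
theorem subfield_kill {F : Type*} [Field F] [Fintype F] {n q : ℕ} (hF : Fintype.card F = q ^ 2) {s p f m : ℕ}
    (hp : p.Prime) (hq : q = p ^ f) (hf : 1 ≤ f) (hs : s.Prime) (hiff : ∀ k, s ∣ p ^ k - 1 ↔ 2 * m * f ∣ k)
    (hord : orderOf (-(q : ZMod s)) = m) (hm : Odd m) (hm1 : 2 ≤ m) (hnm : n < 2 * m) {F₀ : Subfield F} {r : ℕ}
    (hr : 2 ≤ r) (hc : Fintype.card F = Nat.card F₀ ^ r) {P : GL (Fin n) F}
    (h : s ∣ Nat.card (subfieldSubgroup F₀ P)) : False := by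
  have hsq := GeoU.not_dvd_of_ord hs hord (by omega)
  rcases subfield hs (GeoU.not_dvd_card hF hs hsq) h with h1 | h1
  · have h2 : Div s (q ^ 2) 1 := div_one le_rfl (by rwa [← GeoU.nat_card_eq hF])
    have h3 := GeoU.ord_le_of_div (Nat.one_le_pow _ _ (LieClassical.HermBasic.q_pos hF)) h2
    rw [GeoU.ord_sq_odd hord hm] at h3
    omega
  · rw [Fintype.card_fin] at h1
    obtain ⟨i, hi1, hi2, hi3⟩ := h1
    rw [hF, hq, ← pow_mul] at hc
    obtain ⟨a, -, ha⟩ := (Nat.dvd_prime_pow hp).1 (show Nat.card F₀ ∣ p ^ (f * 2) by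
      rw [hc]; exact dvd_pow_self _ (by omega))
    rw [ha, ← pow_mul] at hc hi3
    have har : f * 2 = a * r := Nat.pow_right_injective hp.two_le hc
    have h4 := (hiff _).1 hi3
    have ha0 : 0 < a := by
      rcases Nat.eq_zero_or_pos a with rfl | h5
      · omega
      · exact h5
    have h5 : a * (m * r) ∣ a * i := by
      have : 2 * m * f = a * (m * r) := by
        calc 2 * m * f = m * (f * 2) := by ring
          _ = a * (m * r) := by rw [har]; ring
      rwa [this] at h4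
    have h6 := Nat.le_of_dvd (by omega) (Nat.dvd_of_mul_dvd_mul_left ha0 h5)
    have h7 : 2 * m ≤ m * r := by
      rw [mul_comm 2 m]
      exact Nat.mul_le_mul_left _ hr
    omega

/-- decompositions -/
theorem decomp_kill {F : Type*} [Field F] [Fintype F] {n q : ℕ} (hF : Fintype.card F = q ^ 2) {s m : ℕ}
    (hs : s.Prime) (hord : orderOf (-(q : ZMod s)) = m) (hm : Odd m) (hm1 : 2 ≤ m) {t k : ℕ} (hts : t < s)
    (hkm : k < m) {D : Fin t → Submodule F (Fin n → F)} (hD : IsMDecomposition k D)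
    (h : s ∣ Nat.card (decompositionStabilizer D)) : False := by
  have hsq := GeoU.not_dvd_of_ord hs hord (by omega)
  rcases decomp hD hs (GeoU.not_dvd_card hF hs hsq) h with h1 | h1
  · omega
  · rw [GeoU.nat_card_eq hF] at h1
    have h2 := GeoU.ord_le_of_div (Nat.one_le_pow _ _ (LieClassical.HermBasic.q_pos hF)) h1
    rw [GeoU.ord_sq_odd hord hm] at h2
    omega

/-- tensor products -/
theorem tensor_kill {F : Type*} [Field F] [Fintype F] {n q : ℕ} (hF : Fintype.card F = q ^ 2) {s m : ℕ}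
    (hs : s.Prime) (hord : orderOf (-(q : ZMod s)) = m) (hm : Odd m) (hm1 : 2 ≤ m) {n₁ n₂ : ℕ}
    (e : Fin n ≃ Fin n₁ × Fin n₂) (P : GL (Fin n) F) (h12 : max n₁ n₂ < m)
    (h : s ∣ Nat.card (tensorProductSubgroup n₁ n₂ e P)) : False := by
  have hsq := GeoU.not_dvd_of_ord hs hord (by omega)
  have h1 := tensor e P hs (GeoU.not_dvd_card hF hs hsq) h
  rw [GeoU.nat_card_eq hF] at h1
  have h3 := GeoU.ord_le_of_div (Nat.one_le_pow _ _ (LieClassical.HermBasic.q_pos hF)) h1
  rw [GeoU.ord_sq_odd hord hm] at h3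
  omega

/-- symplectic type -/
theorem symp_kill {F : Type*} [Field F] [Fintype F] {n q : ℕ} (hF : Fintype.card F = q ^ 2) {s m : ℕ}
    (hs : s.Prime) (hord : orderOf (-(q : ZMod s)) = m) (hm : Odd m) (hm1 : 2 ≤ m) (hn : 2 ≤ n) (hsm : n + 1 < s)
    {r k : ℕ} {R : Subgroup (GL (Fin n) F)} (hR : IsSymplecticTypeGroup r R)
    (habs : ActsAbsolutelyIrreducibly (matrixSet R)) (ht : H920.IsType r k R)
    (h : s ∣ Nat.card (subgroupNormalizer R)) : False := by
  have hne : Nonempty (Fin n) := ⟨⟨0, by omega⟩⟩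
  have hcard := H920.card_of_type hR habs ht
  rw [Fintype.card_fin] at hcard
  have hk : 1 ≤ k := by
    by_contra hk0
    have : k = 0 := by omega
    rw [this, pow_zero] at hcard
    omega
  rcases symplecticType hR habs ht hk hs h with h1 | h1 | h1
  · have h2 : r ≤ r ^ k := Nat.le_self_pow (by omega) r
    omega
  · have h2 : Div s (q ^ 2) 1 := div_one le_rfl (by rwa [← GeoU.nat_card_eq hF])
    have h3 := GeoU.ord_le_of_div (Nat.one_le_pow _ _ (LieClassical.HermBasic.q_pos hF)) h2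
    rw [GeoU.ord_sq_odd hord hm] at h3
    omega
  · omega

end Cfsg.Agent.H834.Cov
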