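import Cfsg.Agent.H674.SUBlock
import Cfsg.Agent.H834.Cov.Crit

/-!
# Block diagonal elements of `SU_n(q)` without eigenvectors (helper834, task 3952)

* `NoEig A` : the matrix `A` has no eigenvector over `F`;
* `exists_prime_elt` : elements of prime order `s`, `-q` of order `i ≤ n` modulo `s`;
* `exists_three_blk` : an element of `SU_{3+k}(q)` without eigenvectors, of order divisible by `r`.
-/

set_option autoImplicit false
set_option linter.unusedSectionVars false

namespace Cfsg.Agent.H834.Cov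

open Cfsg Cfsg.Geo Module Cfsg.Agent.H918 Cfsg.Agent.H251 Cfsg.Agent.H951 Cfsg.Agent.H674.SUBlock
open Cfsg.Agent.LieClassical
open scoped Matrix MatrixGroups

section NoEig

variable {F : Type*} [Field F] {n : ℕ}

/-- no eigenvectors -/
def NoEig (A : Matrix (Fin n) (Fin n) F) : Prop := ∀ (v : Fin n → F) (c : F), A *ᵥ v = c • v → v = 0

theorem NoEig.smul {A : Matrix (Fin n) (Fin n) F} (hA : NoEig A) {a : F} (ha : a ≠ 0) : NoEig (a • A) := by
  intro v c h
  apply hA v (a⁻¹ * c)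
  rw [Matrix.smul_mulVec] at h
  rw [mul_smul, ← h, smul_smul, inv_mul_cancel₀ ha, one_smul]

theorem NoEig.conj {A : GL (Fin n) F} (hA : NoEig (A : Matrix (Fin n) (Fin n) F)) (g : GL (Fin n) F) :
    NoEig ((g * A * g⁻¹ : GL (Fin n) F) : Matrix (Fin n) (Fin n) F) := by
  intro v c h
  have h1 : ((g⁻¹ : GL (Fin n) F) : Matrix (Fin n) (Fin n) F) *ᵥ v = 0 := by
    apply hA _ c
    have h2 := congrArg (fun w => ((g⁻¹ : GL (Fin n) F) : Matrix (Fin n) (Fin n) F) *ᵥ w) h
    simp only [Matrix.mulVec_mulVec, Matrix.mulVec_smul, ← Units.val_mul] at h2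
    rw [Matrix.mulVec_mulVec, ← Units.val_mul, ← h2]
    congr 2
    group
  have h3 := congrArg (fun w => (g : Matrix (Fin n) (Fin n) F) *ᵥ w) h1
  simp only [Matrix.mulVec_mulVec, ← Units.val_mul, mul_inv_cancel, Units.val_one, Matrix.one_mulVec,
    Matrix.mulVec_zero] at h3
  exact h3

theorem NoEig.not_inv {A : Matrix (Fin n) (Fin n) F} (hA : NoEig A) {W : Submodule F (Fin n → F)}
    (hW : Inv (Matrix.toLin' A) W) (h1 : finrank F W = 1) : False := by
  obtain ⟨⟨v, hv⟩, hv0, hvs⟩ := finrank_eq_one_iff'.1 h1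
  obtain ⟨c, hc⟩ := hvs ⟨_, hW v hv⟩
  have h2 : c • v = Matrix.toLin' A v := congrArg Subtype.val hc
  apply hv0
  apply Subtype.ext
  apply hA v c
  rw [h2, Matrix.toLin'_apply]

variable {d k : ℕ}

theorem blk_mulVec_left (A : Matrix (Fin d) (Fin d) F) (B : Matrix (Fin k) (Fin k) F) (v : Fin (d + k) → F) (i : Fin d) :
    (blk A B *ᵥ v) (Fin.castAdd k i) = (A *ᵥ fun j => v (Fin.castAdd k j)) i := by
  rw [blk, Matrix.reindex_apply, Matrix.submatrix_mulVec_equiv, Matrix.fromBlocks_mulVec]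
  simp only [Function.comp_apply, finSumFinEquiv_symm_apply_castAdd, Sum.elim_inl, Matrix.zero_mulVec, add_zero]
  rfl

theorem blk_mulVec_right (A : Matrix (Fin d) (Fin d) F) (B : Matrix (Fin k) (Fin k) F) (v : Fin (d + k) → F)
    (i : Fin k) : (blk A B *ᵥ v) (Fin.natAdd d i) = (B *ᵥ fun j => v (Fin.natAdd d j)) i := by
  rw [blk, Matrix.reindex_apply, Matrix.submatrix_mulVec_equiv, Matrix.fromBlocks_mulVec]
  simp only [Function.comp_apply, finSumFinEquiv_symm_apply_natAdd, Sum.elim_inr, Matrix.zero_mulVec, zero_add]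
  rfl

theorem NoEig.blk {A : Matrix (Fin d) (Fin d) F} {B : Matrix (Fin k) (Fin k) F} (hA : NoEig A) (hB : NoEig B) :
    NoEig (blk A B) := by
  intro v c h
  have h1 : (fun j => v (Fin.castAdd k j)) = 0 := by
    apply hA _ c
    funext i
    rw [← blk_mulVec_left A B, h]
    rfl
  have h2 : (fun j => v (Fin.natAdd d j)) = 0 := by
    apply hB _ c
    funext i
    rw [← blk_mulVec_right A B, h]
    rfl
  funext i
  refine Fin.addCases (fun j => ?_) (fun j => ?_) i
  · exact congrFun h1 j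
  · exact congrFun h2 j

theorem blk_pow (A : Matrix (Fin d) (Fin d) F) (B : Matrix (Fin k) (Fin k) F) (m : ℕ) :
    blk A B ^ m = blk (A ^ m) (B ^ m) := by
  induction m with
  | zero => rw [pow_zero, pow_zero, pow_zero, blk_one]
  | succ m ih => rw [pow_succ, pow_succ, pow_succ, ih, ← blk_mul]

end NoEig

section Elt

variable {F : Type*} [Field F] [Fintype F] {n q : ℕ}

/-- elements of prime order -/
theorem exists_prime_elt (hF : Fintype.card F = q ^ 2) (hn : 2 ≤ n) {s i : ℕ} (hs : s.Prime) (hi : 2 ≤ i)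
    (hin : i ≤ n) (ho : orderOf (-(q : ZMod s)) = i) : ∃ g ∈ SUg n F q, orderOf g = s := by
  have := Fact.mk hs
  have hfin : Finite (Cfsg.SU n F q) := inferInstance
  have h1 := H149.PGU.dvd_card_psu hF hn hs hi hin ho
  have h2 : s ∣ Nat.card (Cfsg.SU n F q) := h1.trans (Subgroup.card_quotient_dvd_card _)
  obtain ⟨x, hx⟩ := exists_prime_orderOf_dvd_card' s h2
  exact ⟨suHom n F q x, suHom_mem x, by rw [orderOf_injective _ suHom_injective, hx]⟩

theorem isom_of_mem {g : GL (Fin n) F} (hg : g ∈ SUg n F q) :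
    Isom (hermForm n F q) (Matrix.toLin' (g : Matrix (Fin n) (Fin n) F)) := by
  intro u v
  rw [Matrix.toLin'_apply, Matrix.toLin'_apply]
  exact H918.mem_GU.1 hg.1 u v

theorem toLin_pow_eq {g : GL (Fin n) F} {s : ℕ} (ho : orderOf g = s) :
    (Matrix.toLin' (g : Matrix (Fin n) (Fin n) F)) ^ s = 1 := by
  rw [← GeoCard.toLin_pow, ← ho, pow_orderOf_eq_one, Units.val_one, Matrix.toLin'_one]
  rfl

theorem toLin_ne {g : GL (Fin n) F} {s : ℕ} (hs : s.Prime) (ho : orderOf g = s) :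
    Matrix.toLin' (g : Matrix (Fin n) (Fin n) F) ≠ 1 := by
  intro h1
  have h2 : g = 1 := by
    apply Units.ext
    apply Matrix.toLin'.injective
    rw [h1]
    change _ = Matrix.toLin' (1 : Matrix (Fin n) (Fin n) F)
    rw [Matrix.toLin'_one]
    rfl
  rw [h2, orderOf_one] at ho
  exact hs.one_lt.ne ho

/-- the fixed space of an element of prime order `s` -/
theorem fix_le (hF : Fintype.card F = q ^ 2) {s m : ℕ} (hs : s.Prime) (hord : orderOf (-(q : ZMod s)) = m)
    (hm : 1 ≤ m) {g : GL (Fin n) F} (hg : g ∈ SUg n F q) (ho : orderOf g = s) :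
    finrank F ↥(fx (Matrix.toLin' (g : Matrix (Fin n) (Fin n) F))) + m ≤ n := by
  have := Fact.mk hs
  have h := GeoU.fix_le hF (GeoU.not_dvd_of_ord hs hord hm) (isom_of_mem hg) (toLin_pow_eq ho) (toLin_ne hs ho)
  rwa [hord] at h

/-- small invariant subspaces are fixed -/
theorem le_fx (hF : Fintype.card F = q ^ 2) {s m : ℕ} (hs : s.Prime) (hord : orderOf (-(q : ZMod s)) = m)
    (hm : 1 ≤ m) {g : GL (Fin n) F} (ho : orderOf g = s) {W : Submodule F (Fin n → F)}
    (hW : Inv (Matrix.toLin' (g : Matrix (Fin n) (Fin n) F)) W)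
    (hlt : finrank F W < orderOf ((q ^ 2 : ℕ) : ZMod s)) :
    W ≤ fx (Matrix.toLin' (g : Matrix (Fin n) (Fin n) F)) := by
  have := Fact.mk hs
  apply GeoU.le_fx (GeoU.natCast_ne hF hs (GeoU.not_dvd_of_ord hs hord hm)) (toLin_pow_eq ho) hW
  rwa [hF]

/-- an element of prime order `s` with `-q` of order `n` modulo `s` has no small invariant subspaces -/
theorem eq_bot_of_inv (hF : Fintype.card F = q ^ 2) {s : ℕ} (hs : s.Prime) (hord : orderOf (-(q : ZMod s)) = n)
    (hn : 1 ≤ n) {g : GL (Fin n) F} (hg : g ∈ SUg n F q) (ho : orderOf g = s) {W : Submodule F (Fin n → F)}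
    (hW : Inv (Matrix.toLin' (g : Matrix (Fin n) (Fin n) F)) W)
    (hlt : finrank F W < orderOf ((q ^ 2 : ℕ) : ZMod s)) : finrank F W = 0 := by
  have h1 := fix_le hF hs hord hn hg ho
  have h2 := Submodule.finrank_mono (le_fx hF hs hord hn ho hW hlt)
  omega

theorem noEig_of_prime (hF : Fintype.card F = q ^ 2) {s : ℕ} (hs : s.Prime) (hord : orderOf (-(q : ZMod s)) = n)
    (hn : 1 ≤ n) (h2 : 1 < orderOf ((q ^ 2 : ℕ) : ZMod s)) {g : GL (Fin n) F} (hg : g ∈ SUg n F q)
    (ho : orderOf g = s) : NoEig (g : Matrix (Fin n) (Fin n) F) := by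
  intro v c hv
  by_contra hv0
  have hW : Inv (Matrix.toLin' (g : Matrix (Fin n) (Fin n) F)) (Submodule.span F {v}) := by
    intro w hw
    obtain ⟨a, rfl⟩ := Submodule.mem_span_singleton.1 hw
    rw [Matrix.toLin'_apply, Matrix.mulVec_smul, hv]
    exact Submodule.smul_mem _ _ (Submodule.smul_mem _ _ (Submodule.mem_span_singleton_self v))
  have h1 := eq_bot_of_inv hF hs hord hn hg ho hW (by rw [finrank_span_singleton hv0]; exact h2)
  rw [finrank_span_singleton hv0] at h1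
  omega

/-- a block diagonal element -/
theorem exists_blk (hF : Fintype.card F = q ^ 2) {d k : ℕ} {A : Matrix (Fin d) (Fin d) F} {B : Matrix (Fin k) (Fin k) F}
    (hA : Aᵀ * A.map (GUOrder.frob hF) = 1) (hB : Bᵀ * B.map (GUOrder.frob hF) = 1) (hdet : A.det * B.det = 1) :
    ∃ g ∈ SUg (d + k) F q, (g : Matrix (Fin (d + k)) (Fin (d + k)) F) = blk A B := by
  have h1 : (blk A B).det = 1 := by rw [det_blk, hdet]
  refine ⟨suHom _ F q (H674.SUTools.mkSU hF (blk A B) h1 (isom_blk hF hA hB)), suHom_mem _, rfl⟩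

theorem gu_of_mem (hF : Fintype.card F = q ^ 2) {g : GL (Fin n) F} (hg : g ∈ SUg n F q) :
    (g : Matrix (Fin n) (Fin n) F)ᵀ * (g : Matrix (Fin n) (Fin n) F).map (GUOrder.frob hF) = 1 :=
  (GUOrder.mul_map_eq_one_iff hF _).1 hg.1

theorem gu_smul (hF : Fintype.card F = q ^ 2) {A : Matrix (Fin n) (Fin n) F} (hA : Aᵀ * A.map (GUOrder.frob hF) = 1)
    {a : F} (ha : a * a ^ q = 1) : (a • A)ᵀ * (a • A).map (GUOrder.frob hF) = 1 := by
  have h1 : (a • A).map (GUOrder.frob hF) = a ^ q • A.map (GUOrder.frob hF) := by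
    ext i j
    simp only [Matrix.map_apply, Matrix.smul_apply, smul_eq_mul, map_mul]
    rfl
  rw [h1, Matrix.transpose_smul, Matrix.smul_mul, Matrix.mul_smul, hA, smul_smul, ha, one_smul]

/-- `r` divides the order of a block diagonal element -/
theorem dvd_order {d k : ℕ} {g : GL (Fin (d + k)) F} {A : Matrix (Fin d) (Fin d) F} {b : GL (Fin k) F} {c : F}
    (hg : (g : Matrix (Fin (d + k)) (Fin (d + k)) F) = blk A (c • (b : Matrix (Fin k) (Fin k) F)))
    {r N : ℕ} (hr : r.Prime) (hN : ¬ r ∣ N) (hc : c ^ N = 1) (hb : orderOf b = r) : r ∣ orderOf g := by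
  have h1 : (g : Matrix (Fin (d + k)) (Fin (d + k)) F) ^ (orderOf g * N) = 1 := by
    rw [← Units.val_pow_eq_pow_val, pow_mul, pow_orderOf_eq_one, one_pow, Units.val_one]
  rw [hg, blk_pow, ← blk_one] at h1
  have h2 := (blk_inj h1).2
  rw [_root_.smul_pow, mul_comm (orderOf g) N, pow_mul, hc, one_pow, one_smul, ← Units.val_pow_eq_pow_val] at h2
  have h3 : b ^ (N * orderOf g) = 1 := Units.ext h2
  have h4 := orderOf_dvd_of_pow_eq_one h3
  rw [hb] at h4
  exact (hr.dvd_mul.1 h4).resolve_left hN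

/-- dimension three over the field with four elements -/
theorem exists_three_two (hF : Fintype.card F = q ^ 2) (h2 : q = 2) : ∃ (A : Matrix (Fin 3) (Fin 3) F) (w : F),
    Aᵀ * A.map (GUOrder.frob hF) = 1 ∧ NoEig A ∧ A.det = w ∧ w ^ 3 = 1 := by
  classical
  have h4 : Fintype.card F = 4 := by rw [hF, h2]; norm_num
  obtain ⟨w, hw0, hw1⟩ : ∃ w : F, w ≠ 0 ∧ w ≠ 1 := by
    have h : ({0, 1} : Finset F).card < Fintype.card F := by
      rw [h4]
      exact lt_of_le_of_lt Finset.card_le_two (by norm_num)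
    obtain ⟨w, hw⟩ := Finset.exists_mem_notMem_of_card_lt_card (s := ({0, 1} : Finset F)) (t := Finset.univ) (by
      rwa [Finset.card_univ])
    simp only [Finset.mem_insert, Finset.mem_singleton, not_or] at hw
    exact ⟨w, hw.2.1, hw.2.2⟩
  have hcube : ∀ c : F, c ≠ 0 → c ^ 3 = 1 := by
    intro c hc
    have := FiniteField.pow_card_sub_one_eq_one c hc
    rwa [h4] at this
  have hfr : ∀ c : F, GUOrder.frob hF c = c ^ 2 := by
    intro c
    change c ^ q = c ^ 2
    rw [h2]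
  refine ⟨!![0, 0, w; 1, 0, 0; 0, 1, 0], w, ?_, ?_, ?_, hcube w hw0⟩
  · have h5 : w * w ^ 2 = 1 := by rw [← hcube w hw0]; ring
    ext i j
    fin_cases i <;> fin_cases j <;>
      simp [Matrix.mul_apply, Fin.sum_univ_three, hfr, h5]
  · intro v c hv
    have e0 := congrFun hv 0
    have e1 := congrFun hv 1
    have e2 := congrFun hv 2
    simp [Matrix.mulVec, dotProduct, Fin.sum_univ_three] at e0 e1 e2
    -- `w v₂ = c v₀`, `v₀ = c v₁`, `v₁ = c v₂`
    have h6 : (w - c ^ 3) * v 2 = 0 := by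
      rw [e2] at e1
      rw [e1] at e0
      linear_combination e0
    have h7 : w - c ^ 3 ≠ 0 := by
      by_cases hc : c = 0
      · rw [hc]; simpa using hw0
      · rw [hcube c hc]; exact sub_ne_zero.2 hw1
    have h8 : v 2 = 0 := (mul_eq_zero.1 h6).resolve_left h7
    have h9 : v 1 = 0 := by rw [e2, h8, mul_zero]
    have h10 : v 0 = 0 := by rw [e1, h9, mul_zero]
    funext i
    fin_cases i
    · exact h10
    · exact h9
    · exact h8
  · rw [Matrix.det_fin_three]
    simp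

/-- **block diagonal elements** `[3] + [k]` -/
theorem exists_three_blk (hF : Fintype.card F = q ^ 2) {k : ℕ} (hk : k = 4 ∨ k = 5) (hn : n = 3 + k) {b : GL (Fin k) F}
    (hb : b ∈ SUg k F q) (hNo : NoEig (b : Matrix (Fin k) (Fin k) F)) {r : ℕ} (hr : r.Prime) (ho : orderOf b = r)
    (hrq : ¬ r ∣ q + 1) : ∃ g ∈ SUg n F q, NoEig (g : Matrix (Fin n) (Fin n) F) ∧ r ∣ orderOf g := by
  subst hn
  obtain ⟨p, f, hp, hf, hq, hpF⟩ := GeoU.exists_prime_power hF
  have hdb : (b : Matrix (Fin k) (Fin k) F).det = 1 := (mem_SUg.1 hb).2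
  by_cases h2 : q = 2
  · obtain ⟨A, w, hA, hAn, hdet, hw⟩ := exists_three_two hF h2
    have hw0 : w ≠ 0 := by
      rintro rfl
      simp at hw
    -- the scalar
    obtain ⟨c, hc0, hc3, hck⟩ : ∃ c : F, c ≠ 0 ∧ c ^ 3 = 1 ∧ w * c ^ k = 1 := by
      rcases hk with rfl | rfl
      · refine ⟨w ^ 2, pow_ne_zero _ hw0, by rw [← pow_mul, mul_comm, pow_mul, hw, one_pow], ?_⟩
        calc w * (w ^ 2) ^ 4 = (w ^ 3) ^ 3 := by ring
          _ = 1 := by rw [hw, one_pow]
      · refine ⟨w, hw0, hw, ?_⟩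
        calc w * w ^ 5 = (w ^ 3) ^ 2 := by ring
          _ = 1 := by rw [hw, one_pow]
    have hcq : c * c ^ q = 1 := by
      rw [h2, ← hc3]; ring
    obtain ⟨g, hg, hgm⟩ := exists_blk hF hA (gu_smul hF (gu_of_mem hF hb) hcq) (by
      rw [Matrix.det_smul, Fintype.card_fin, hdb, hdet, mul_one, hck])
    refine ⟨g, hg, ?_, dvd_order hgm hr (N := 3) (by rwa [h2] at hrq) hc3 ho⟩
    rw [hgm]
    exact hAn.blk (hNo.smul hc0)
  · obtain ⟨s, hs, hsord, -, -, -⟩ := H149.NegPrime.exists_neg_prime (i := 3) hp hq hf le_rfl (fun h => h2 h.2)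
    obtain ⟨a, ha, hao⟩ := exists_prime_elt (n := 3) hF (by norm_num) hs (by norm_num) le_rfl hsord
    have haN : NoEig (a : Matrix (Fin 3) (Fin 3) F) := by
      refine noEig_of_prime hF hs hsord (by norm_num) ?_ ha hao
      rw [GeoU.ord_sq_odd hsord (by decide)]
      norm_num
    have hone : (1 : F) * 1 ^ q = 1 := by simp
    obtain ⟨g, hg, hgm⟩ := exists_blk hF (gu_of_mem hF ha) (gu_smul hF (gu_of_mem hF hb) hone) (by
      rw [Matrix.det_smul, one_pow, one_mul, hdb, (mem_SUg.1 ha).2, mul_one])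
    refine ⟨g, hg, ?_, dvd_order hgm hr (N := 1) (by
      intro h; exact hr.one_lt.ne' (Nat.dvd_one.1 h)) (by simp) ho⟩
    rw [hgm]
    exact haN.blk (hNo.smul one_ne_zero)

end Elt

end Cfsg.Agent.H834.Cov
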