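import Cfsg.Agent.H834.Cov.Su7
import Cfsg.Agent.S5820
import Cfsg.Agent.S5821

/-!
# S2499: `PSU_8(q)` is not a union of the conjugates of two proper subgroups (helper834, task 3952)

`noTwo_psu8`.
-/

set_option autoImplicit false
set_option linter.unusedSectionVars false

namespace Cfsg.Agent.H834.Cov

open Cfsg Cfsg.Geo Module Cfsg.Agent.H918 Cfsg.Agent.H251 Cfsg.Agent.H251.GeoCard Cfsg.Agent.H951
open Cfsg.Agent.H278.Cov
open Cfsg.Agent.LieClassical
open scoped Matrix MatrixGroups

theorem finrank_pos_of_ne {F : Type*} [Field F] {n : ℕ} {W : Submodule F (Fin n → F)} (hW0 : W ≠ ⊥) :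
    0 < finrank F W := by
  rw [Nat.pos_iff_ne_zero, Ne, Submodule.finrank_eq_zero]
  exact hW0

/-- **`PSU_8(q)`** -/
theorem noTwo_psu8 {q : ℕ} {F : Type} [Field F] [Fintype F] (hF : Fintype.card F = q ^ 2) : NoTwo (PSU 8 F q) := by
  classical
  obtain ⟨p, f, hp, hf, hq, hpF⟩ := GeoU.exists_prime_power hF
  -- the three primes
  obtain ⟨s, hs, hsiff, hs1, hsord⟩ := GeoU.exists_big (m := 7) hp hf (by norm_num) (by decide) (by
    rintro ⟨h, -⟩; omega)
  obtain ⟨t, ht, htiff, ht1, htord⟩ := GeoU.exists_big (m := 5) hp hf (by norm_num) (by decide) (by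
    rintro ⟨h, -⟩; omega)
  obtain ⟨r, hr, hrord, -, -, -⟩ := H149.NegPrime.exists_neg_prime (i := 8) hp hq hf (by norm_num) (by
    rintro ⟨h, -⟩; omega)
  rw [← hq] at hsord htord
  have hs15 : 14 < s := by
    have h1 := Nat.le_of_dvd (by have := hs.two_le; omega) hs1
    have h2 : 2 * 7 * 1 ≤ 2 * 7 * f := Nat.mul_le_mul_left _ hf
    omega
  have ht11 : 10 < t := by
    have h1 := Nat.le_of_dvd (by have := ht.two_le; omega) ht1
    have h2 : 2 * 5 * 1 ≤ 2 * 5 * f := Nat.mul_le_mul_left _ hf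
    omega
  have hfs := Fact.mk hs
  have hft := Fact.mk ht
  have hfr := Fact.mk hr
  -- the elements
  obtain ⟨a, ha, hao⟩ := exists_prime_elt (n := 8) hF (by norm_num) hs (by norm_num) (by norm_num) hsord
  obtain ⟨b₂, hb₂, hb₂o⟩ := exists_prime_elt (n := 5) hF (by norm_num) ht (by norm_num) le_rfl htord
  obtain ⟨c, hc, hco⟩ := exists_prime_elt (n := 8) hF (by norm_num) hr (by norm_num) le_rfl hrord
  have htq1 : ¬ t ∣ q + 1 := by
    intro h
    have h1 : ((q + 1 : ℕ) : ZMod t) = 0 := (ZMod.natCast_eq_zero_iff _ _).2 h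
    have h2 : -(q : ZMod t) = 1 := by
      push_cast at h1
      linear_combination -h1
    rw [h2, orderOf_one] at htord
    omega
  have hb₂N : NoEig (b₂ : Matrix (Fin 5) (Fin 5) F) := by
    refine noEig_of_prime hF ht htord (by norm_num) ?_ hb₂ hb₂o
    rw [GeoU.ord_sq_odd htord (by decide)]
    norm_num
  obtain ⟨b, hb, hbN, hbo⟩ := exists_three_blk (n := 8) hF (Or.inr rfl) rfl hb₂ hb₂N ht hb₂o htq1
  have hTA : ∀ H, IsMaximalIn (SUg 8 F q) H → ∀ x ∈ H, orderOf x = s →
      ∃ W : Submodule F (Fin 8 → F), finrank F W = 1 ∧ H ≤ subspaceStabilizer W := by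
    intro H hH x hx hxo
    have hsH : s ∣ Nat.card H := dvd_card_of_mem hx (by rw [hxo])
    rcases Cfsg.Agent.S5820.result q hF H hH with h | h | h | h | h | h | h | h | h | h | h | h
    · obtain ⟨W, hW0, hW, rfl⟩ := h
      exact (GeoU.kill_ts hF hs hsord (by decide) (by norm_num) (by norm_num) hW0 hW
        (hsH.trans (Subgroup.card_dvd_of_le (inf_le_inf_left _ inf_le_left)))).elim
    · obtain ⟨W, hW0, hW, hW2, rfl⟩ := h
      have := GeoU.kill_nd hF hs hsord (by decide) (by norm_num) (by norm_num) hW0 hW2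
        (hsH.trans (Subgroup.card_dvd_of_le (inf_le_inf_left _ inf_le_left)))
      exact ⟨W, this.2, inf_le_left⟩
    · obtain ⟨D, hD, rfl⟩ := h
      exact (decomp_kill hF hs hsord (by decide) (by norm_num) (by omega) (by norm_num) hD.decomp
        (GeoU.dvd_left hsH)).elim
    · obtain ⟨-, D, hD, rfl⟩ := h
      exact (decomp_kill hF hs hsord (by decide) (by norm_num) (by omega) (by norm_num) hD.decomp
        (GeoU.dvd_left hsH)).elim
    · obtain ⟨D, hD, rfl⟩ := h
      exact (decomp_kill hF hs hsord (by decide) (by norm_num) (by omega) (by norm_num) hD.decomp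
        (GeoU.dvd_left hsH)).elim
    · obtain ⟨D, hD, -, rfl⟩ := h
      exact (decomp_kill hF hs hsord (by decide) (by norm_num) (by omega) (by norm_num) hD
        (GeoU.dvd_left hsH)).elim
    · obtain ⟨-, e, P, f₁, f₂, -, -, -, rfl⟩ := h
      exact (tensor_kill hF hs hsord (by decide) (by norm_num) e P (by norm_num) (GeoU.dvd_left hsH)).elim
    · obtain ⟨F₀, r', P, hr', hro, hcd, -, rfl⟩ := h
      exact (subfield_kill hF hp hq hf hs hsiff hsord (by decide) (by norm_num) (by norm_num) hr'.two_le hcd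
        (GeoU.dvd_left hsH)).elim
    · obtain ⟨F₀, P, ζ, hcd, -, -, -, -, rfl⟩ := h
      exact (subfield_kill hF hp hq hf hs hsiff hsord (by decide) (by norm_num) (by norm_num) le_rfl hcd
        (GeoU.dvd_left hsH)).elim
    · obtain ⟨-, F₀, P, hcd, -, rfl⟩ := h
      exact (subfield_kill hF hp hq hf hs hsiff hsord (by decide) (by norm_num) (by norm_num) le_rfl hcd
        (GeoU.dvd_left hsH)).elim
    · obtain ⟨p', R, -, -, -, hR, habs, -, hRc, hRz, rfl⟩ := h
      refine (symp_kill (k := 3) hF hs hsord (by decide) (by norm_num) (by norm_num) (by omega) hR habs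
        (Or.inr ⟨rfl, hRz, by rw [hRc]; norm_num⟩) (GeoU.dvd_left hsH)).elim
    · obtain ⟨P, hP, -, -, K, i1, i2, hK, ⟨e⟩⟩ := Cfsg.Agent.S5821.result q hF H hH h
      have h1 := core_dvd (by norm_num) hP hs (not_dvd_pred hF hsord (by norm_num)) hx hxo
      have := prime_aut_l34 hK e hs h1
      omega
  refine noTwo_psu_of (a := a) (b := b) (c := c) ha hb hc (PA := fun x => orderOf x = s)
    (PB := fun x => x ∈ SUg 8 F q ∧ NoEig (x : Matrix (Fin 8) (Fin 8) F) ∧ t ∣ orderOf x)
    (PC := fun x => x ∈ SUg 8 F q ∧ orderOf x = r)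
    (TA := fun H => ∃ W : Submodule F (Fin 8 → F), finrank F W = 1 ∧ H ≤ subspaceStabilizer W)
    (TB := fun H => ∃ W : Submodule F (Fin 8 → F), 0 < finrank F W ∧ finrank F W ≤ 3 ∧ H ≤ subspaceStabilizer W)
    ?_ ?_ ?_ hao ⟨hb, hbN, hbo⟩ ⟨hc, hco⟩ ?_ ?_ ?_ ?_ ?_
  · intro g hg x hx
    rw [← hx]
    exact orderOf_injective (MulAut.conj g).toMonoidHom (MulAut.conj g).injective x
  · intro g hg x hx
    refine ⟨Subgroup.mul_mem _ (Subgroup.mul_mem _ hg hx.1) (Subgroup.inv_mem _ hg), hx.2.1.conj g, ?_⟩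
    have : orderOf (g * x * g⁻¹) = orderOf x :=
      orderOf_injective (MulAut.conj g).toMonoidHom (MulAut.conj g).injective x
    rw [this]
    exact hx.2.2
  · intro g hg x hx
    refine ⟨Subgroup.mul_mem _ (Subgroup.mul_mem _ hg hx.1) (Subgroup.inv_mem _ hg), ?_⟩
    rw [← hx.2]
    exact orderOf_injective (MulAut.conj g).toMonoidHom (MulAut.conj g).injective x
  · exact hTA
  · -- overgroups of `b`
    intro H hH x hx ⟨hxS, hxN, hxo⟩
    have htH : t ∣ Nat.card H := dvd_card_of_mem hx hxo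
    set y := x ^ (orderOf x / t) with hy
    have hyH : y ∈ H := Subgroup.pow_mem _ hx _
    have hyS : y ∈ SUg 8 F q := Subgroup.pow_mem _ hxS _
    have hyo : orderOf y = t := exists_pow_order hxo
    have hfix := fix_le hF ht htord (by norm_num) hyS hyo
    have hle : ∀ W : Submodule F (Fin 8 → F), H ≤ subspaceStabilizer W → finrank F W < 5 → finrank F W ≤ 3 := by
      intro W hW h3
      have h4 := le_fx hF ht htord (by norm_num) hyo (inv_of_le hW hyH) (by
        rw [GeoU.ord_sq_odd htord (by decide)]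
        exact h3)
      have := Submodule.finrank_mono h4
      omega
    rcases Cfsg.Agent.S5820.result q hF H hH with h | h | h | h | h | h | h | h | h | h | h | h
    · obtain ⟨W, hW0, hW, rfl⟩ := h
      have h2 : 2 * finrank F W ≤ 8 := by
        have h3 := (H950.frm_herm hF 8).two_mul_finrank_le (H950.nd_top hF 8) le_top (W := W) hW
        rwa [finrank_top, finrank_fintype_fun_eq_card, Fintype.card_fin] at h3
      exact ⟨W, finrank_pos_of_ne hW0, hle W inf_le_left (by omega), inf_le_left⟩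
    · obtain ⟨W, hW0, hW, hW2, rfl⟩ := h
      exact ⟨W, finrank_pos_of_ne hW0, by omega, inf_le_left⟩
    · obtain ⟨D, hD, rfl⟩ := h
      exact (decomp_kill hF ht htord (by decide) (by norm_num) (by omega) (by norm_num) hD.decomp
        (GeoU.dvd_left htH)).elim
    · obtain ⟨-, D, hD, rfl⟩ := h
      exact (decomp_kill hF ht htord (by decide) (by norm_num) (by omega) (by norm_num) hD.decomp
        (GeoU.dvd_left htH)).elim
    · obtain ⟨D, hD, rfl⟩ := h
      exact (decomp_kill hF ht htord (by decide) (by norm_num) (by omega) (by norm_num) hD.decomp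
        (GeoU.dvd_left htH)).elim
    · obtain ⟨D, hD, -, rfl⟩ := h
      exact (decomp_kill hF ht htord (by decide) (by norm_num) (by omega) (by norm_num) hD
        (GeoU.dvd_left htH)).elim
    · obtain ⟨-, e, P, f₁, f₂, -, -, -, rfl⟩ := h
      exact (tensor_kill hF ht htord (by decide) (by norm_num) e P (by norm_num) (GeoU.dvd_left htH)).elim
    · obtain ⟨F₀, r', P, hr', hro, hcd, -, rfl⟩ := h
      exact (subfield_kill hF hp hq hf ht htiff htord (by decide) (by norm_num) (by norm_num) hr'.two_le hcd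
        (GeoU.dvd_left htH)).elim
    · obtain ⟨F₀, P, ζ, hcd, -, -, -, -, rfl⟩ := h
      exact (subfield_kill hF hp hq hf ht htiff htord (by decide) (by norm_num) (by norm_num) le_rfl hcd
        (GeoU.dvd_left htH)).elim
    · obtain ⟨-, F₀, P, hcd, -, rfl⟩ := h
      exact (subfield_kill hF hp hq hf ht htiff htord (by decide) (by norm_num) (by norm_num) le_rfl hcd
        (GeoU.dvd_left htH)).elim
    · obtain ⟨p', R, -, -, -, hR, habs, -, hRc, hRz, rfl⟩ := h
      refine (symp_kill (k := 3) hF ht htord (by decide) (by norm_num) (by norm_num) (by omega) hR habs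
        (Or.inr ⟨rfl, hRz, by rw [hRc]; norm_num⟩) (GeoU.dvd_left htH)).elim
    · obtain ⟨P, hP, -, -, K, i1, i2, hK, ⟨e⟩⟩ := Cfsg.Agent.S5821.result q hF H hH h
      have h1 := core_dvd (by norm_num) hP ht (not_dvd_pred hF htord (by norm_num)) hyH hyo
      have := prime_aut_l34 hK e ht h1
      omega
  · intro H hH x hx hxo y hy hyo
    obtain ⟨W, hW1, hHW⟩ := hTA H hH x hx hxo
    exact hyo.2.1.not_inv (inv_of_le hHW hy) hW1
  · rintro H ⟨W, hW1, hHW⟩ x hx ⟨hxS, hxo⟩
    have := eq_bot_of_inv hF hr hrord (by norm_num) hxS hxo (inv_of_le hHW hx) (by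
      rw [GeoU.ord_sq_even hrord (by decide)]; omega)
    omega
  · rintro H ⟨W, hW0, hW3, hHW⟩ x hx ⟨hxS, hxo⟩
    have := eq_bot_of_inv hF hr hrord (by norm_num) hxS hxo (inv_of_le hHW hx) (by
      rw [GeoU.ord_sq_even hrord (by decide)]; omega)
    omega

end Cfsg.Agent.H834.Cov
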